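import Mathlib

/-!
The elementary abelian group of order 27 with its weight and a faithful character of the
diagonal.
-/

set_option autoImplicit false

namespace Cfsg.Agent.ThreeTI.Cube

/-- The elementary abelian group of order 27. -/
abbrev V : Type := Multiplicative (ZMod 3 × ZMod 3 × ZMod 3)

/-- The product of the coordinates. -/
def pr (v : V) : ZMod 3 := v.toAdd.1 * v.toAdd.2.1 * v.toAdd.2.2

/-- The vector with all coordinates one. -/
def cv : V := Multiplicative.ofAdd (1, 1, 1)

/-- The first unit vector. -/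
def ev : V := Multiplicative.ofAdd (1, 0, 0)

theorem pr_inv : ∀ v : V, pr v⁻¹ = -pr v := by decide +kernel

theorem ne_one_of_pr {v : V} (h : pr v ≠ 0) : v ≠ 1 := by
  rintro rfl
  exact h (by decide)

theorem count_pp : (Finset.univ.filter fun u : V =>
    pr u = pr cv ∧ pr (u⁻¹ * ev) = pr cv).card = 2 := by decide +kernel

theorem count_mm : (Finset.univ.filter fun u : V =>
    pr u = pr cv⁻¹ ∧ pr (u⁻¹ * ev) = pr cv⁻¹).card = 2 := by decide +kernel

theorem count_pm : (Finset.univ.filter fun u : V =>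
    pr u = pr cv ∧ pr (u⁻¹ * ev) = pr cv⁻¹).card = 0 := by decide +kernel

theorem filter_plus : (Finset.univ.filter fun v : V => pr v = 1) =
    ([(1, 1, 1), (1, 2, 2), (2, 1, 2), (2, 2, 1)].map Multiplicative.ofAdd).toFinset := by
  decide +kernel

theorem filter_minus : (Finset.univ.filter fun v : V => pr v = 2) =
    ([(2, 2, 2), (2, 1, 1), (1, 2, 1), (1, 1, 2)].map Multiplicative.ofAdd).toFinset := by
  decide +kernel

/-- A primitive cube root of unity. -/
noncomputable def w : ℂ := ⟨-1 / 2, Real.sqrt 3 / 2⟩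

theorem w_quad : w * w + w + 1 = 0 := by
  have h : Real.sqrt 3 * Real.sqrt 3 = 3 := Real.mul_self_sqrt (by norm_num)
  apply Complex.ext <;> simp [w] <;> nlinarith

theorem w_cube : w ^ 3 = 1 := by linear_combination (w - 1) * w_quad

/-- Three times the difference of the two primitive roots. -/
noncomputable def sv : ℂ := 3 * (w - w ^ 2)

theorem sv_sq : sv * sv = -27 := by
  rw [sv]; linear_combination (9 * (w ^ 2 - 3 * w + 3)) * w_quad

theorem sv_ne : sv ≠ 0 := fun h => by
  have := sv_sq
  rw [h] at this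
  norm_num at this

/-- The character of the diagonal. -/
noncomputable def lam : V →* ℂˣ :=
  MonoidHom.toHomUnits
    { toFun := fun v => AddChar.zmodChar 3 w_cube (v.toAdd.1 + v.toAdd.2.1 + v.toAdd.2.2)
      map_one' := by simp
      map_mul' := fun a b => by
        rw [← AddChar.map_add_eq_mul]
        congr 1
        simp only [toAdd_mul, Prod.fst_add, Prod.snd_add]
        ring }

theorem lam_apply (v : V) :
    (lam v : ℂ) = w ^ (v.toAdd.1 + v.toAdd.2.1 + v.toAdd.2.2).val := rfl

/-- The odd weight. -/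
noncomputable def wt (v : V) : ℂ := (lam⁻¹ v : ℂˣ) - (lam v : ℂ)

theorem wt_inv (v : V) : wt v⁻¹ = -wt v := by
  simp [wt, MonoidHom.inv_apply, map_inv, inv_inv]

theorem wt_val (v : V) :
    wt v = w ^ (-(v.toAdd.1 + v.toAdd.2.1 + v.toAdd.2.2)).val -
      w ^ (v.toAdd.1 + v.toAdd.2.1 + v.toAdd.2.2).val := by
  rw [wt, MonoidHom.inv_apply, ← map_inv, lam_apply, lam_apply]
  congr 3
  simp only [toAdd_inv, Prod.fst_neg, Prod.snd_neg]
  ring

/-- The coordinate sum. -/
def ksum (v : V) : ZMod 3 := v.toAdd.1 + v.toAdd.2.1 + v.toAdd.2.2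

theorem wt_comp : wt = (fun k : ZMod 3 => w ^ (-k).val - w ^ k.val) ∘ ksum :=
  funext wt_val

theorem sum_plus : ∑ v ∈ Finset.univ.filter (fun v : V => pr v = 1), wt v = sv := by
  rw [filter_plus, List.sum_toFinset _ (by decide +kernel), wt_comp, ← List.map_map,
    show (([(1, 1, 1), (1, 2, 2), (2, 1, 2), (2, 2, 1)] : List (ZMod 3 × ZMod 3 × ZMod 3)).map
      Multiplicative.ofAdd).map ksum = [0, 2, 2, 2] by decide +kernel]
  simp only [List.map_cons, List.map_nil, List.sum_cons, List.sum_nil, neg_zero,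
    show (0 : ZMod 3).val = 0 from rfl, show (2 : ZMod 3).val = 2 from rfl,
    show (-(2 : ZMod 3)).val = 1 from rfl]
  rw [sv]; ring

theorem sum_minus : ∑ v ∈ Finset.univ.filter (fun v : V => pr v = 2), wt v = -sv := by
  rw [filter_minus, List.sum_toFinset _ (by decide +kernel), wt_comp, ← List.map_map,
    show (([(2, 2, 2), (2, 1, 1), (1, 2, 1), (1, 1, 2)] : List (ZMod 3 × ZMod 3 × ZMod 3)).map
      Multiplicative.ofAdd).map ksum = [0, 1, 1, 1] by decide +kernel]
  simp only [List.map_cons, List.map_nil, List.sum_cons, List.sum_nil, neg_zero,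
    show (0 : ZMod 3).val = 0 from rfl, show (1 : ZMod 3).val = 1 from rfl,
    show (-(1 : ZMod 3)).val = 2 from rfl]
  rw [sv]; ring

/-- The weighted sum of a function that is even off the two diagonal orbits. -/
theorem weighted_sum (f : V → ℂ) (h0 : ∀ v, pr v = 0 → f v⁻¹ = f v)
    (h1 : ∀ v, pr v = 1 → f v = f cv) (h2 : ∀ v, pr v = 2 → f v = f cv⁻¹) :
    ∑ v, f v * wt v = (f cv - f cv⁻¹) * sv := by
  set f' : V → ℂ := fun v => if pr v = 0 then f v else 0 with hf'
  have hz : ∑ v, f' v * wt v = 0 := by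
    have h : ∑ v, f' v * wt v = -∑ v, f' v * wt v := by
      refine (Equiv.sum_comp (Equiv.inv V : V ≃ V) (fun v => f' v * wt v)).symm.trans ?_
      rw [← Finset.sum_neg_distrib]
      refine Finset.sum_congr rfl fun v _ => ?_
      simp only [Equiv.inv_apply, wt_inv, hf', pr_inv, neg_eq_zero]
      split_ifs with h
      · rw [h0 v h]; ring
      · ring
    linear_combination h / 2
  have e : ∀ v, f v * wt v = f' v * wt v + (if pr v = 1 then f cv * wt v else 0) +
      (if pr v = 2 then f cv⁻¹ * wt v else 0) := by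
    intro v
    have hc : pr v = 0 ∨ pr v = 1 ∨ pr v = 2 :=
      (by decide : ∀ x : ZMod 3, x = 0 ∨ x = 1 ∨ x = 2) _
    rcases hc with h | h | h
    · simp [hf', h, show (0 : ZMod 3) ≠ 2 by decide]
    · simp [hf', h, h1 v h, show (1 : ZMod 3) ≠ 2 by decide]
    · simp [hf', h, h2 v h, show (2 : ZMod 3) ≠ 1 by decide, show (2 : ZMod 3) ≠ 0 by decide]
  rw [Finset.sum_congr rfl fun v _ => e v, Finset.sum_add_distrib, Finset.sum_add_distrib, hz,
    ← Finset.sum_filter, ← Finset.sum_filter, ← Finset.mul_sum, ← Finset.mul_sum, sum_plus,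
    sum_minus]
  ring

end Cfsg.Agent.ThreeTI.Cube
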