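import Cfsg.Agent.Lib.ThreeTI.Cube.Main
import Mathlib.GroupTheory.PGroup
import Mathlib.GroupTheory.SpecificGroups.Dihedral

/-!
The even part of `S₃ × S₃ × S₃` inside `Sym(9)`, and the local data it gives.
-/

set_option autoImplicit false
set_option linter.style.haveILetI false
set_option linter.unusedSectionVars false
set_option maxRecDepth 20000

namespace Cfsg.Agent.ThreeTI.Cube

open Cfsg

universe u

/-- Three dihedral groups of order 6. -/
abbrev Md : Type := DihedralGroup 3 × DihedralGroup 3 × DihedralGroup 3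

/-- The natural action on three points. -/
def act : DihedralGroup 3 →* Equiv.Perm (ZMod 3) where
  toFun x := match x with
    | .r i => ⟨fun y => y + i, fun y => y - i, fun y => add_sub_cancel_right y _,
        fun y => sub_add_cancel y _⟩
    | .sr i => ⟨fun y => -i - y, fun y => -i - y, fun y => sub_sub_cancel _ y,
        fun y => sub_sub_cancel _ y⟩
  map_one' := by decide +kernel
  map_mul' := by decide +kernel

/-- The coordinate of the block of a point. -/
def blk (m : Md) (k : Fin 3) : DihedralGroup 3 := ![m.1, m.2.1, m.2.2] k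

theorem blk_one (k : Fin 3) : blk 1 k = 1 := by fin_cases k <;> rfl

theorem blk_mul (m n : Md) (k : Fin 3) : blk (m * n) k = blk m k * blk n k := by
  fin_cases k <;> rfl

/-- The action on three blocks. -/
def blockAct : Md →* Equiv.Perm (Fin 3 × ZMod 3) where
  toFun m := Equiv.prodShear (Equiv.refl _) fun k => act (blk m k)
  map_one' := by ext x <;> simp [blk_one]
  map_mul' m n := by ext x <;> simp [blk_mul]

/-- The action on nine points. -/
def perm9 : Md →* Equiv.Perm (Fin 9) :=
  (Equiv.permCongrHom (finProdFinEquiv : Fin 3 × ZMod 3 ≃ Fin 9)).toMonoidHom.comp blockAct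

theorem perm9_injective : Function.Injective perm9 := by
  refine (injective_iff_map_eq_one perm9).2 ?_
  decide +kernel

/-- The generators. -/
def gens : Set Md :=
  {(.r 1, 1, 1), (1, .r 1, 1), (1, 1, .r 1), (.sr 2, .sr 2, 1), (.sr 2, 1, .sr 2)}

theorem gens_eq : perm9 '' gens =
    ({Equiv.swap (0 : Fin 9) 1 * Equiv.swap 1 2, Equiv.swap (3 : Fin 9) 4 * Equiv.swap 4 5,
      Equiv.swap (6 : Fin 9) 7 * Equiv.swap 7 8, Equiv.swap (0 : Fin 9) 1 * Equiv.swap 3 4,
      Equiv.swap (0 : Fin 9) 1 * Equiv.swap 6 7} : Set (Equiv.Perm (Fin 9))) := by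
  simp only [gens, Set.image_insert_eq, Set.image_singleton]
  rw [show perm9 (.r 1, 1, 1) = Equiv.swap (0 : Fin 9) 1 * Equiv.swap 1 2 by decide +kernel,
    show perm9 (1, .r 1, 1) = Equiv.swap (3 : Fin 9) 4 * Equiv.swap 4 5 by decide +kernel,
    show perm9 (1, 1, .r 1) = Equiv.swap (6 : Fin 9) 7 * Equiv.swap 7 8 by decide +kernel,
    show perm9 (.sr 2, .sr 2, 1) = Equiv.swap (0 : Fin 9) 1 * Equiv.swap 3 4 by decide +kernel,
    show perm9 (.sr 2, 1, .sr 2) = Equiv.swap (0 : Fin 9) 1 * Equiv.swap 6 7 by decide +kernel]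

/-- The parity. -/
def parity : Md →* ℤˣ := (Equiv.Perm.sign).comp perm9

/-- The rotations. -/
def rot : V →* Md where
  toFun v := (.r v.toAdd.1, .r v.toAdd.2.1, .r v.toAdd.2.2)
  map_one' := rfl
  map_mul' _ _ := rfl

theorem rot_injective : Function.Injective rot := by decide +kernel

theorem cube_mem : ∀ m : Md, m ^ 27 = 1 → ∃ v, rot v = m := by decide +kernel

theorem orbit_model : ∀ m : Md, parity m = 1 → ∀ u : V, ∀ v : V,
    m * rot u * m⁻¹ = rot v → pr u = pr v := by decide +kernel

theorem diag_model : ∀ v : V, pr v ≠ 0 → ∀ m : Md, m * rot v = rot v * m → ∃ u, rot u = m := by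
  decide +kernel

/-- Representatives of the four-group. -/
def four : List Md := [1, (.sr 2, .sr 2, 1), (.sr 2, 1, .sr 2), (1, .sr 2, .sr 2)]

theorem trans_model : ∀ u v : V, pr u = pr v → pr u ≠ 0 → ∃ m ∈ four, m * rot u * m⁻¹ = rot v := by
  decide +kernel

theorem real_model : ∀ v : V, pr v = 0 → ∃ m ∈ four, m * rot v * m⁻¹ = rot v⁻¹ := by
  decide +kernel

theorem four_mem : ∀ m ∈ four, m ∈ Subgroup.closure gens := by
  intro m hm
  have ha : ((.sr 2, .sr 2, 1) : Md) ∈ Subgroup.closure gens :=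
    Subgroup.subset_closure (by simp [gens])
  have hb : ((.sr 2, 1, .sr 2) : Md) ∈ Subgroup.closure gens :=
    Subgroup.subset_closure (by simp [gens])
  simp only [four, List.mem_cons, List.not_mem_nil, or_false] at hm
  rcases hm with rfl | rfl | rfl | rfl
  · exact one_mem _
  · exact ha
  · exact hb
  · exact (show ((.sr 2, .sr 2, 1) : Md) * (.sr 2, 1, .sr 2) = (1, .sr 2, .sr 2) by decide +kernel)
      ▸ mul_mem ha hb

theorem rot_mem (v : V) : rot v ∈ Subgroup.closure gens := by
  rw [(by decide +kernel : ∀ v : V, rot v =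
    (.r 1, 1, 1) ^ v.toAdd.1.val * (1, .r 1, 1) ^ v.toAdd.2.1.val *
      (1, 1, .r 1) ^ v.toAdd.2.2.val) v]
  refine mul_mem (mul_mem (pow_mem ?_ _) (pow_mem ?_ _)) (pow_mem ?_ _) <;>
    exact Subgroup.subset_closure (by simp [gens])

theorem parity_eq {m : Md} (h : m ∈ Subgroup.closure gens) : parity m = 1 := by
  refine (Subgroup.closure_le parity.ker).2 ?_ h
  intro x hx
  simp only [gens, Set.mem_insert_iff, Set.mem_singleton_iff] at hx
  rw [SetLike.mem_coe, MonoidHom.mem_ker]
  rcases hx with rfl | rfl | rfl | rfl | rfl <;> decide +kernel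

theorem dvd_three_pow {n k : ℕ} (hn : n ∣ 3 ^ k) (h : n ∣ 216) : n ∣ 27 := by
  obtain ⟨i, -, rfl⟩ := (Nat.dvd_prime_pow Nat.prime_three).1 hn
  have : i ≤ 3 := by
    by_contra hi
    have h81 : (81 : ℕ) ∣ 216 :=
      ((show (81 : ℕ) = 3 ^ 4 by norm_num) ▸ Nat.pow_dvd_pow 3 (by omega : 4 ≤ i)).trans h
    norm_num at h81
  exact (show (27 : ℕ) = 3 ^ 3 by norm_num) ▸ Nat.pow_dvd_pow 3 this

variable {G : Type u} [Group G] [Finite G]

theorem exists_data (H : Subgroup G)
    (e : ↥H ≃* ↥(Subgroup.closure gens))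
    (T : Subgroup G) (hTH : T ≤ H) (hT : Nat.card T = 27)
    (hN : Subgroup.normalizer (T : Set G) = H)
    (hC : ∀ t ∈ T, t ≠ 1 → Subgroup.centralizer ({t} : Set G) ≤ H) (hne : H ≠ ⊤) :
    Nonempty (Data G H) := by
  classical
  set θ : H →* Md := (Subgroup.closure gens).subtype.comp e.toMonoidHom with hθ
  have θinj : Function.Injective θ :=
    (Subgroup.closure gens).subtype_injective.comp e.injective
  set j : V →* G := H.subtype.comp (e.symm.toMonoidHom.comp
    (rot.codRestrict (Subgroup.closure gens) rot_mem)) with hj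
  have jmem : ∀ v, j v ∈ H := fun v => (e.symm ⟨rot v, rot_mem v⟩).2
  have θj : ∀ v, θ ⟨j v, jmem v⟩ = rot v := by
    intro v
    show ((e (e.symm ⟨rot v, rot_mem v⟩) : Subgroup.closure gens) : Md) = rot v
    rw [e.apply_symm_apply]
  have jinj : Function.Injective j := fun u v h => rot_injective (by
    rw [← θj u, ← θj v]; exact congrArg θ (Subtype.ext h))
  have of_rot : ∀ h : H, (∃ v, rot v = θ h) → (h : G) ∈ j.range := fun h ⟨v, hv⟩ =>
    ⟨v, congrArg Subtype.val (θinj ((θj v).trans hv))⟩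
  have order : ∀ h : H, ∀ k, orderOf h ∣ 3 ^ k → (h : G) ∈ j.range := by
    intro h k hk
    refine of_rot h (cube_mem _ ?_)
    rw [← map_pow, ← map_one θ]
    congr 1
    refine orderOf_dvd_iff_pow_eq_one.1 (dvd_three_pow hk ?_)
    rw [← orderOf_injective θ θinj]
    exact (orderOf_dvd_natCard (θ h)).trans (by rw [Nat.card_eq_fintype_card]; decide +kernel)
  have hTj : T = j.range := by
    refine Subgroup.eq_of_le_of_card_ge (fun t ht => ?_) ?_
    · refine order ⟨t, hTH ht⟩ 3 ?_
      rw [Subgroup.orderOf_mk]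
      have := Subgroup.orderOf_dvd_natCard _ ht
      rwa [hT] at this
    · rw [hT, ← Nat.card_congr (MonoidHom.ofInjective jinj).toEquiv]
      simp
  have cent : ∀ v : V, v ≠ 1 → Subgroup.centralizer ({j v} : Set G) ≤ H := fun v hv =>
    hC _ (hTj ▸ ⟨v, rfl⟩) fun h => hv (jinj (h.trans (map_one _).symm))
  have three : ∀ h ∈ H, h ^ 3 = 1 → h ∈ j.range := fun h hh h3 =>
    order ⟨h, hh⟩ 1 (orderOf_dvd_of_pow_eq_one (Subtype.ext (by simpa using h3)))
  have hV3 : ∀ v : V, j v ^ 3 = 1 := fun v => by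
    rw [← map_pow, (by decide +kernel : ∀ v : V, v ^ 3 = 1) v, map_one]
  have ti : ∀ u v : V, u ≠ 1 → ∀ g : G, g * j u * g⁻¹ = j v → g ∈ H := by
    intro u v hu g hg
    have hv : v ≠ 1 := fun h => hu (jinj (by
      rw [h, map_one, mul_inv_eq_one, mul_eq_left] at hg
      rw [hg, map_one]))
    rw [← hN, Subgroup.mem_normalizer_iff_map_conj_eq]
    refine Subgroup.eq_of_le_of_card_ge ?_
      (Subgroup.card_map_of_injective (MulAut.conj g).injective).ge
    rintro _ ⟨t, ht, rfl⟩
    obtain ⟨w, rfl⟩ : t ∈ j.range := hTj ▸ ht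
    show g * j w * g⁻¹ ∈ T
    rw [hTj]
    refine three _ (cent v hv (Subgroup.mem_centralizer_singleton_iff.2 ?_)) ?_
    · rw [← hg, ← MulAut.conj_apply, ← MulAut.conj_apply, ← map_mul, ← map_mul, ← map_mul,
        ← map_mul, mul_comm]
    · rw [conj_pow, hV3, mul_one, mul_inv_cancel]
  have conj_of : ∀ m ∈ four, ∀ u v : V, m * rot u * m⁻¹ = rot v → IsConj (j u) (j v) := by
    intro m hm u v h
    set k : H := e.symm ⟨m, four_mem m hm⟩ with hk
    have hθk : θ k = m := by
      show ((e k : Subgroup.closure gens) : Md) = m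
      rw [hk, e.apply_symm_apply]
    refine isConj_iff.2 ⟨(k : G), congrArg Subtype.val (?_ : k * ⟨j u, jmem u⟩ * k⁻¹ = ⟨j v, jmem v⟩)⟩
    apply θinj
    rw [map_mul, map_mul, map_inv, hθk, θj, θj, h]
  refine ⟨{
    j := j
    inj := jinj
    mem := jmem
    ti := ti
    cent := cent
    three := three
    diag := fun v hv h hh hc => ?_
    orbit := fun u v h hh hc => ?_
    trans := fun u v h1 h2 => ?_
    real := fun v hv => ?_
    big := ?_ }⟩
  · refine of_rot ⟨h, hh⟩ (diag_model v hv _ ?_)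
    rw [← θj, ← map_mul, ← map_mul]
    exact congrArg θ (Subtype.ext hc)
  · refine orbit_model (θ ⟨h, hh⟩) (parity_eq (e ⟨h, hh⟩).2) u v ?_
    rw [← θj, ← θj, ← map_inv, ← map_mul, ← map_mul]
    exact congrArg θ (Subtype.ext hc)
  · obtain ⟨m, hm, h⟩ := trans_model u v h1 h2
    exact conj_of m hm u v h
  · obtain ⟨m, hm, h⟩ := real_model v hv
    exact conj_of m hm v v⁻¹ h
  · -- the translates of one coset outside `H` are distinct
    obtain ⟨g, hg⟩ : ∃ g, g ∉ H := by
      by_contra h
      push Not at h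
      exact hne (top_unique fun x _ => h x)
    let f : Option V → G ⧸ H := fun o => o.elim ((1 : G) : G ⧸ H) fun v => ((j v * g : G) : G ⧸ H)
    have hf : Function.Injective f := by
      have hbase : ∀ v, ((1 : G) : G ⧸ H) ≠ ((j v * g : G) : G ⧸ H) := fun v h => by
        rw [QuotientGroup.eq, inv_one, one_mul] at h
        exact hg ((H.mul_mem_cancel_left (jmem v)).1 h)
      rintro (_ | u) (_ | v) h
      · rfl
      · exact absurd h (hbase v)
      · exact absurd h.symm (hbase u)
      · by_contra hne'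
        have hd : u⁻¹ * v ≠ 1 := fun h1 => hne' (by rw [inv_mul_eq_one.1 h1])
        have h' : (j u * g)⁻¹ * (j v * g) ∈ H := QuotientGroup.eq.1 h
        rw [show (j u * g)⁻¹ * (j v * g) = g⁻¹ * j (u⁻¹ * v) * g⁻¹⁻¹ by
          rw [map_mul, map_inv]; group] at h'
        obtain ⟨w, hw⟩ := three _ h' (by rw [conj_pow, hV3, mul_one, mul_inv_cancel])
        exact hg (inv_mem_iff.1 (ti _ w hd g⁻¹ hw.symm))
    have h28 : 28 ≤ H.index := by
      have := Nat.card_le_card_of_injective f hf
      rw [Finite.card_option] at this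
      simpa [Subgroup.index_eq_card] using this
    have h54 : 54 ≤ Nat.card H := by
      have hlt : 27 < Nat.card H := by
        rw [← hT]
        refine lt_of_le_of_ne (Subgroup.card_le_of_le hTH) fun heq => ?_
        have hTH' : T = H := Subgroup.eq_of_le_of_card_ge hTH heq.ge
        obtain ⟨w, hw⟩ : (e.symm ⟨_, four_mem (.sr 2, .sr 2, 1) (by simp [four])⟩ : G) ∈ j.range := by
          have hx := (e.symm ⟨_, four_mem (.sr 2, .sr 2, 1) (by simp [four])⟩).2
          exact hTj.le (hTH'.ge hx)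
        have h2 := congrArg θ (Subtype.ext hw : (⟨j w, jmem w⟩ : H) = e.symm _)
        rw [θj] at h2
        have h3 : rot w = (.sr 2, .sr 2, 1) := by
          rw [h2]
          show ((e (e.symm _) : Subgroup.closure gens) : Md) = _
          rw [e.apply_symm_apply]
        exact (by decide +kernel : ∀ w : V, rot w ≠ (.sr 2, .sr 2, 1)) w h3
      obtain ⟨c, hc⟩ := Subgroup.card_dvd_of_le hTH
      rw [hT] at hc
      have : 2 ≤ c := by
        by_contra h
        interval_cases c <;> omega
      omega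
    rw [← H.card_mul_index]
    calc 1458 < 54 * 28 := by norm_num
      _ ≤ Nat.card H * H.index := Nat.mul_le_mul h54 h28

theorem eq_top (H : Subgroup G)
    (hH : Nonempty (↥H ≃* ↥(Subgroup.closure (perm9 '' gens))))
    (T : Subgroup G) (hTH : T ≤ H) (hT : Nat.card T = 27)
    (hN : Subgroup.normalizer (T : Set G) = H)
    (hC : ∀ t ∈ T, t ≠ 1 → Subgroup.centralizer ({t} : Set G) ≤ H) : H = ⊤ := by
  by_contra hne
  obtain ⟨e⟩ := hH
  have e' : ↥H ≃* ↥(Subgroup.closure gens) :=
    e.trans ((MulEquiv.subgroupCongr (MonoidHom.map_closure perm9 gens).symm).trans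
      ((Subgroup.closure gens).equivMapOfInjective perm9 perm9_injective).symm)
  obtain ⟨D⟩ := exists_data H e' T hTH hT hN hC hne
  exact D.false_of_data

end Cfsg.Agent.ThreeTI.Cube
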