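import Cfsg.Agent.Lib.ThreeTI.Cube.Vec
import Cfsg.Agent.Lib.ThreeTI.Triangles
import Cfsg.Agent.Lib.Char.Induction
import Cfsg.Agent.Lib.Char.Degree
import Cfsg.Agent.Lib.Small.ClassCount

/-!
A TI Sylow subgroup of order 27 with automiser a four-group of even sign changes forces the
normaliser to be the whole group.
-/

set_option autoImplicit false
set_option linter.style.haveILetI false
set_option linter.unusedSectionVars false

namespace Cfsg.Agent.ThreeTI.Cube

open Cfsg Cfsg.Agent.Char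
open scoped ComplexConjugate

universe u

/-- The local data. -/
structure Data (G : Type u) [Group G] (H : Subgroup G) where
  j : V →* G
  inj : Function.Injective j
  mem : ∀ v, j v ∈ H
  ti : ∀ u v : V, u ≠ 1 → ∀ g : G, g * j u * g⁻¹ = j v → g ∈ H
  cent : ∀ v : V, v ≠ 1 → Subgroup.centralizer ({j v} : Set G) ≤ H
  three : ∀ h ∈ H, h ^ 3 = 1 → h ∈ j.range
  diag : ∀ v : V, pr v ≠ 0 → ∀ h ∈ H, h * j v = j v * h → h ∈ j.range
  orbit : ∀ u v : V, ∀ h ∈ H, h * j u * h⁻¹ = j v → pr u = pr v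
  trans : ∀ u v : V, pr u = pr v → pr u ≠ 0 → IsConj (j u) (j v)
  real : ∀ v : V, pr v = 0 → IsConj (j v) (j v⁻¹)
  big : 1458 < Nat.card G

variable {G : Type u} [Group G] [Finite G] {H : Subgroup G} (D : Data G H)

namespace Data

theorem ne_one {v : V} (h : v ≠ 1) : D.j v ≠ 1 := fun e => h (D.inj (e.trans (map_one _).symm))

theorem pr_of_isConj {u v : V} (h : IsConj (D.j u) (D.j v)) : pr u = pr v := by
  obtain ⟨g, hg⟩ := isConj_iff.1 h
  by_cases hu : u = 1
  · subst hu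
    rw [map_one, mul_one, mul_inv_cancel] at hg
    rw [show v = 1 from D.inj (hg.symm.trans (map_one _).symm)]
  · exact D.orbit u v g (D.ti u v hu g hg) hg

theorem card_centralizer {v : V} (h : pr v ≠ 0) :
    Nat.card (Subgroup.centralizer ({D.j v} : Set G)) = 27 := by
  have e : Subgroup.centralizer ({D.j v} : Set G) = D.j.range := by
    refine le_antisymm (fun g hg => ?_) ?_
    · exact D.diag v h g (D.cent v (ne_one_of_pr h) hg)
        (Subgroup.mem_centralizer_singleton_iff.1 hg)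
    · rintro _ ⟨u, rfl⟩
      refine Subgroup.mem_centralizer_singleton_iff.2 ?_
      rw [← map_mul, ← map_mul, mul_comm]
  rw [e, ← Nat.card_congr (MonoidHom.ofInjective D.inj).toEquiv]
  simp

theorem cube (v : V) : D.j v ^ 3 = 1 := by
  rw [← map_pow, (by decide +kernel : ∀ v : V, v ^ 3 = 1) v, map_one]

theorem cube_of_isConj {v : V} {a : G} (h : IsConj (D.j v) a) : a ^ 3 = 1 := by
  obtain ⟨g, rfl⟩ := isConj_iff.1 h
  rw [conj_pow, D.cube, mul_one, mul_inv_cancel]

/-- The structure constants are computed inside the abelian group. -/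
theorem count {c d : V} (hc : pr c ≠ 0) (hd : pr d ≠ 0) :
    Nat.card {a : G // IsConj (D.j c) a ∧ IsConj (D.j d) (a⁻¹ * D.j ev)} =
      (Finset.univ.filter fun u : V => pr u = pr c ∧ pr (u⁻¹ * ev) = pr d).card := by
  rw [← Fintype.card_coe, ← Nat.card_eq_fintype_card]
  symm
  refine Nat.card_eq_of_bijective (fun u => ⟨D.j u.1, ?_, ?_⟩) ⟨fun u u' e => ?_, fun a => ?_⟩
  · exact D.trans c u.1 (Finset.mem_filter.1 u.2).2.1.symm hc
  · rw [← map_inv, ← map_mul]
    exact D.trans d _ (Finset.mem_filter.1 u.2).2.2.symm hd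
  · exact Subtype.ext (D.inj (congrArg Subtype.val e))
  obtain ⟨a, hac, had⟩ := a
  have hb := D.cube_of_isConj had
  have hxi : (D.j ev)⁻¹ ^ 3 = 1 := by rw [inv_pow, D.cube, inv_one]
  have hprod : (a⁻¹ * D.j ev * (D.j ev)⁻¹) ^ 3 = 1 := by
    rw [mul_inv_cancel_right, inv_pow, D.cube_of_isConj hac, inv_one]
  rcases isConj_or_commute_three hb hxi hprod with h | ⟨q, q1, q3, qb, qx⟩
  · rw [← map_inv] at h
    have := D.pr_of_isConj (had.trans h)
    exact absurd (this.trans (by decide)) hd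
  · rw [← map_inv] at qx
    have hqH : q ∈ H :=
      D.cent ev⁻¹ (by decide) (Subgroup.mem_centralizer_singleton_iff.2 qx.eq)
    obtain ⟨r, rfl⟩ := D.three q hqH q3
    have hr : r ≠ 1 := fun e => q1 (by rw [e, map_one])
    have hbH := D.cent r hr (Subgroup.mem_centralizer_singleton_iff.2 qb.eq.symm)
    obtain ⟨s, hs⟩ := D.three _ hbH hb
    have ha : a = D.j (ev * s⁻¹) := by rw [map_mul, map_inv, hs]; group
    subst ha
    refine ⟨⟨ev * s⁻¹, Finset.mem_filter.2 ⟨Finset.mem_univ _, ?_, ?_⟩⟩, rfl⟩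
    · exact (D.pr_of_isConj hac).symm
    · rw [← map_inv, ← map_mul] at had
      exact (D.pr_of_isConj had).symm

section Chars

variable [Fintype G]

theorem class_eq (χ : IrrCharacter G) {a b : G} (h : IsConj a b) :
    (χ : G → ℂ) a = (χ : G → ℂ) b := by
  obtain ⟨g, rfl⟩ := isConj_iff.1 h
  exact (IsCharacter.isClassFunction (IsIrrCharacter.isCharacter χ.2) a g).symm

theorem exists_q (χ : IrrCharacter G) : ∃ q : ℤ,
    (χ : G → ℂ) (D.j cv) - (χ : G → ℂ) (D.j cv⁻¹) = -sv * (q : ℂ) := by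
  have hχ : Cfsg.IsGeneralizedCharacter V (fun v => (χ : G → ℂ) (D.j v)) :=
    IsGeneralizedCharacter.of_isCharacter
      (IsCharacter.comp (IsIrrCharacter.isCharacter χ.2) D.j)
  obtain ⟨n₁, h₁⟩ := IsGeneralizedCharacter.exists_classInner_int hχ
    (IsGeneralizedCharacter.of_isCharacter
      (IsIrrCharacter.isCharacter (isIrrCharacter_linear lam)))
  obtain ⟨n₂, h₂⟩ := IsGeneralizedCharacter.exists_classInner_int hχ
    (IsGeneralizedCharacter.of_isCharacter
      (IsIrrCharacter.isCharacter (isIrrCharacter_linear lam⁻¹)))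
  refine ⟨n₁ - n₂, ?_⟩
  have hw := weighted_sum (fun v => (χ : G → ℂ) (D.j v))
    (fun v h => (class_eq χ (D.real v h)).symm)
    (fun v h => (class_eq χ (D.trans cv v (by rw [h]; decide) (by decide))).symm)
    (fun v h => (class_eq χ (D.trans cv⁻¹ v (by rw [h]; decide) (by decide))).symm)
  have hl : ∀ v, conj (lam v : ℂ) = (lam⁻¹ v : ℂˣ) := fun v => by
    rw [MonoidHom.inv_apply, ← map_inv]
    exact (IsCharacter.inv (IsIrrCharacter.isCharacter (isIrrCharacter_linear lam)) v).symm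
  have e : ((n₁ - n₂ : ℤ) : ℂ) * 27 = ∑ v, (χ : G → ℂ) (D.j v) * wt v := by
    push_cast
    rw [← h₁, ← h₂, Cfsg.classInner, Cfsg.classInner, ← mul_sub, ← Finset.sum_sub_distrib,
      show (Nat.card V : ℂ) = 27 by simp]
    rw [mul_comm ((27 : ℂ)⁻¹), mul_assoc, inv_mul_cancel₀ (by norm_num), mul_one]
    refine Finset.sum_congr rfl fun v _ => ?_
    have h2 : conj ((lam⁻¹ v : ℂˣ) : ℂ) = lam v := by rw [← hl, Complex.conj_conj]
    rw [hl, h2, wt]
    ring
  rw [hw] at e
  apply mul_left_cancel₀ sv_ne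
  rw [← mul_assoc, mul_neg, sv_sq]
  linear_combination -e

/-- The multiplicity of `χ` in the character induced from the difference of the two faithful
characters of the diagonal. -/
noncomputable def q (χ : IrrCharacter G) : ℤ := Classical.choose (D.exists_q χ)

theorem q_spec (χ : IrrCharacter G) :
    (χ : G → ℂ) (D.j cv) - (χ : G → ℂ) (D.j cv⁻¹) = -sv * (D.q χ : ℂ) :=
  Classical.choose_spec (D.exists_q χ)

theorem conj_cv (χ : IrrCharacter G) :
    conj ((χ : G → ℂ) (D.j cv)) = (χ : G → ℂ) (D.j cv⁻¹) := by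
  rw [map_inv, IsCharacter.inv (IsIrrCharacter.isCharacter χ.2)]

theorem not_conj_cv : ¬ IsConj (D.j cv) (D.j cv⁻¹) := fun h =>
  absurd (D.pr_of_isConj h) (by decide)

theorem sum_q_sq : ∑ χ, D.q χ * D.q χ = 2 := by
  classical
  have e : ∑ χ : IrrCharacter G, ((χ : G → ℂ) (D.j cv) - (χ : G → ℂ) (D.j cv⁻¹)) *
      conj ((χ : G → ℂ) (D.j cv) - (χ : G → ℂ) (D.j cv⁻¹)) = 54 := by
    simp only [map_sub, sub_mul, mul_sub, Finset.sum_sub_distrib]
    rw [column_orth_of_isConj (IsConj.refl _), column_orth_of_isConj (IsConj.refl _),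
      column_orth_of_not_isConj D.not_conj_cv,
      column_orth_of_not_isConj fun h => D.not_conj_cv h.symm,
      D.card_centralizer (by decide), D.card_centralizer (by decide)]
    norm_num
  have e2 : ∀ χ : IrrCharacter G, ((χ : G → ℂ) (D.j cv) - (χ : G → ℂ) (D.j cv⁻¹)) *
      conj ((χ : G → ℂ) (D.j cv) - (χ : G → ℂ) (D.j cv⁻¹)) = 27 * ((D.q χ : ℂ) * D.q χ) := by
    intro χ
    have e3 : conj ((χ : G → ℂ) (D.j cv) - (χ : G → ℂ) (D.j cv⁻¹)) =
        -((χ : G → ℂ) (D.j cv) - (χ : G → ℂ) (D.j cv⁻¹)) := by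
      rw [map_sub, ← D.conj_cv, Complex.conj_conj, neg_sub]
    rw [e3, q_spec]
    linear_combination (-((D.q χ : ℂ) * D.q χ)) * sv_sq
  rw [Finset.sum_congr rfl fun χ _ => e2 χ, ← Finset.mul_sum] at e
  have : ((∑ χ, D.q χ * D.q χ : ℤ) : ℂ) = ((2 : ℤ) : ℂ) := by
    push_cast; linear_combination e / 27
  exact_mod_cast this

theorem sum_q_column {y : G} (h1 : ¬ IsConj (D.j cv) y) (h2 : ¬ IsConj (D.j cv⁻¹) y) :
    ∑ χ : IrrCharacter G, (D.q χ : ℂ) * conj ((χ : G → ℂ) y) = 0 := by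
  have e : ∑ χ : IrrCharacter G, ((χ : G → ℂ) (D.j cv) - (χ : G → ℂ) (D.j cv⁻¹)) *
      conj ((χ : G → ℂ) y) = 0 := by
    simp only [sub_mul, Finset.sum_sub_distrib]
    rw [column_orth_of_not_isConj h1, column_orth_of_not_isConj h2, sub_zero]
  simp only [q_spec, mul_assoc, ← Finset.mul_sum] at e
  exact (mul_eq_zero.1 e).resolve_left (neg_ne_zero.2 sv_ne)

theorem cubic_sum : (Nat.card G : ℂ) * ∑ χ : IrrCharacter G,
    (D.q χ : ℂ) * D.q χ * conj ((χ : G → ℂ) (D.j ev)) / (χ : G → ℂ) 1 = -108 := by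
  have hpp := ClassCount.pair_count (D.j cv) (D.j cv) (D.j ev)
  have hmm := ClassCount.pair_count (D.j cv⁻¹) (D.j cv⁻¹) (D.j ev)
  have hpm := ClassCount.pair_count (D.j cv) (D.j cv⁻¹) (D.j ev)
  rw [D.count (by decide) (by decide), count_pp, D.card_centralizer (by decide)] at hpp
  rw [D.count (by decide) (by decide), count_mm, D.card_centralizer (by decide)] at hmm
  rw [D.count (by decide) (by decide), count_pm, D.card_centralizer (by decide),
    D.card_centralizer (by decide)] at hpm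
  have e : ∀ χ : IrrCharacter G,
      (-27 : ℂ) * ((D.q χ : ℂ) * D.q χ * conj ((χ : G → ℂ) (D.j ev)) / (χ : G → ℂ) 1) =
      (χ : G → ℂ) (D.j cv) * (χ : G → ℂ) (D.j cv) * conj ((χ : G → ℂ) (D.j ev)) / (χ : G → ℂ) 1 +
      (χ : G → ℂ) (D.j cv⁻¹) * (χ : G → ℂ) (D.j cv⁻¹) * conj ((χ : G → ℂ) (D.j ev)) /
        (χ : G → ℂ) 1 -
      2 * ((χ : G → ℂ) (D.j cv) * (χ : G → ℂ) (D.j cv⁻¹) * conj ((χ : G → ℂ) (D.j ev)) /
        (χ : G → ℂ) 1) := fun χ => by
    have hq : (-27 : ℂ) * ((D.q χ : ℂ) * D.q χ) =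
        ((χ : G → ℂ) (D.j cv) - (χ : G → ℂ) (D.j cv⁻¹)) ^ 2 := by
      rw [q_spec]; linear_combination (-((D.q χ : ℂ) * D.q χ)) * sv_sq
    linear_combination (conj ((χ : G → ℂ) (D.j ev)) / (χ : G → ℂ) 1) * hq
  have h := Finset.sum_congr rfl fun χ (_ : χ ∈ (Finset.univ : Finset (IrrCharacter G))) => e χ
  rw [Finset.sum_sub_distrib, Finset.sum_add_distrib, ← Finset.mul_sum, ← Finset.mul_sum] at h
  push_cast at hpp hmm hpm
  linear_combination (-(Nat.card G : ℂ) / 27) * h + hpp / 27 + hmm / 27 - 2 * hpm / 27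

end Chars

include D in
theorem false_of_data : False := by
  classical
  haveI := Fintype.ofFinite G
  have hsq := D.sum_q_sq
  obtain ⟨a, ha⟩ : ∃ a, D.q a ≠ 0 := by
    by_contra h
    push Not at h
    simp [h] at hsq
  have hrest := Finset.add_sum_erase Finset.univ (fun χ => D.q χ * D.q χ) (Finset.mem_univ a)
  rw [hsq] at hrest
  have hrest0 : 0 ≤ ∑ χ ∈ Finset.univ.erase a, D.q χ * D.q χ :=
    Finset.sum_nonneg fun χ _ => mul_self_nonneg _
  have ha1 : D.q a * D.q a = 1 := by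
    have h1 : D.q a ≤ 1 ∧ -1 ≤ D.q a := by constructor <;> nlinarith
    obtain h | h : D.q a = 1 ∨ D.q a = -1 := by omega
    all_goals rw [h]; norm_num
  obtain ⟨b, hb, hb0⟩ : ∃ b ∈ Finset.univ.erase a, D.q b ≠ 0 := by
    by_contra h
    push Not at h
    rw [Finset.sum_eq_zero fun χ hχ => by rw [h χ hχ, mul_zero], ha1] at hrest
    norm_num at hrest
  have hab : b ≠ a := Finset.ne_of_mem_erase hb
  have hz : ∀ χ, χ ≠ a ∧ χ ≠ b → D.q χ = 0 := by
    intro χ hχ
    have h1 := Finset.add_sum_erase _ (fun χ => D.q χ * D.q χ) hb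
    have h2 : D.q χ * D.q χ ≤ ∑ ξ ∈ (Finset.univ.erase a).erase b, D.q ξ * D.q ξ :=
      Finset.single_le_sum (f := fun ξ => D.q ξ * D.q ξ) (fun ξ _ => mul_self_nonneg _)
        (Finset.mem_erase.2 ⟨hχ.2, Finset.mem_erase.2 ⟨hχ.1, Finset.mem_univ _⟩⟩)
    have h3 : 1 ≤ D.q b * D.q b := mul_self_pos.2 hb0
    exact mul_self_eq_zero.1 (le_antisymm (by linarith) (mul_self_nonneg _))
  have two : ∀ f : IrrCharacter G → ℂ, ∑ χ, (D.q χ : ℂ) * f χ =
      (D.q a : ℂ) * f a + (D.q b : ℂ) * f b := fun f =>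
    Fintype.sum_eq_add a b hab.symm fun χ hχ => by rw [hz χ hχ, Int.cast_zero, zero_mul]
  have hb1 : D.q b * D.q b = 1 := by
    have h := Fintype.sum_eq_add (f := fun χ => D.q χ * D.q χ) a b hab.symm
      fun χ hχ => by rw [hz χ hχ, mul_zero]
    rw [hsq] at h
    linarith
  -- the degrees agree
  have h1 := D.sum_q_column (y := 1) (fun h => D.ne_one (v := cv) (by decide) (isConj_one_left.1 h))
    (fun h => D.ne_one (v := cv⁻¹) (by decide) (isConj_one_left.1 h))
  rw [two, CharX.irr_deg, CharX.irr_deg, map_natCast, map_natCast] at h1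
  have h1' : D.q a * (Cfsg.charDegree (a : G → ℂ) : ℤ) +
      D.q b * (Cfsg.charDegree (b : G → ℂ) : ℤ) = 0 := by exact_mod_cast h1
  have hqb : D.q b = -D.q a := by
    have da : 0 < (Cfsg.charDegree (a : G → ℂ) : ℤ) := by exact_mod_cast CharX.irr_deg_pos a
    have db : 0 < (Cfsg.charDegree (b : G → ℂ) : ℤ) := by exact_mod_cast CharX.irr_deg_pos b
    rcases mul_self_eq_one_iff.1 ha1 with e | e <;>
      rcases mul_self_eq_one_iff.1 hb1 with f | f <;> rw [e, f] at h1' ⊢ <;> linarith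
  have hdeg : Cfsg.charDegree (b : G → ℂ) = Cfsg.charDegree (a : G → ℂ) := by
    rw [hqb] at h1'
    have : D.q a * ((Cfsg.charDegree (a : G → ℂ) : ℤ) - Cfsg.charDegree (b : G → ℂ)) = 0 := by
      linarith
    rcases mul_eq_zero.1 this with e | e
    · exact absurd e ha
    · omega
  -- so do the values at `ev`
  have h2 := D.sum_q_column (y := D.j ev) (fun h => absurd (D.pr_of_isConj h) (by decide))
    (fun h => absurd (D.pr_of_isConj h) (by decide))
  rw [two, hqb, Int.cast_neg] at h2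
  have hx : conj ((b : G → ℂ) (D.j ev)) = conj ((a : G → ℂ) (D.j ev)) := by
    apply mul_left_cancel₀ (Int.cast_ne_zero.2 ha : (D.q a : ℂ) ≠ 0)
    linear_combination -h2
  -- the class multiplication
  have h3 := D.cubic_sum
  simp only [mul_assoc, mul_div_assoc, two] at h3
  rw [hx, CharX.irr_deg, CharX.irr_deg, hdeg, hqb, Int.cast_neg] at h3
  set d : ℕ := Cfsg.charDegree (a : G → ℂ) with hd
  set x : ℂ := conj ((a : G → ℂ) (D.j ev)) with hxdef
  have hdpos : (d : ℂ) ≠ 0 := Nat.cast_ne_zero.2 (CharX.irr_deg_pos a).ne'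
  have hq2 : (D.q a : ℂ) * D.q a = 1 := by exact_mod_cast ha1
  have hxe : (Nat.card G : ℂ) * x = -54 * d := by
    field_simp at h3
    linear_combination h3 / 2 - (Nat.card G : ℂ) * x * hq2
  have hint : IsIntegral ℤ x := by
    rw [hxdef, ← IsCharacter.inv (IsIrrCharacter.isCharacter a.2)]
    exact IsCharacter.isIntegral (IsIrrCharacter.isCharacter a.2) _
  have hN : (Nat.card G : ℂ) ≠ 0 := Nat.cast_ne_zero.2 Nat.card_pos.ne'
  have hrat : x = (((-54 * d : ℚ) / (Nat.card G : ℚ) : ℚ) : ℂ) := by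
    push_cast
    rw [eq_div_iff hN, mul_comm, hxe]
  obtain ⟨z, hz'⟩ : ∃ z : ℤ, (z : ℂ) = x := by
    rw [hrat, ← eq_ratCast (algebraMap ℚ ℂ), isIntegral_algebraMap_iff
      (algebraMap ℚ ℂ).injective] at hint
    obtain ⟨z, hz⟩ := IsIntegrallyClosed.isIntegral_iff.1 hint
    refine ⟨z, ?_⟩
    rw [hrat, ← hz]
    simp
  have hNz : (Nat.card G : ℤ) * z = -54 * d := by
    rw [← hz'] at hxe
    exact_mod_cast hxe
  have hsum : d * d + d * d ≤ Nat.card G := by
    rw [← CharX.sum_deg_sq]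
    have := Finset.sum_le_sum_of_subset (f := fun χ : IrrCharacter G =>
      Cfsg.charDegree (χ : G → ℂ) ^ 2) (Finset.subset_univ ({a, b} : Finset (IrrCharacter G)))
    rw [Finset.sum_pair hab.symm, hdeg, ← hd, pow_two] at this
    exact this
  have hbig := D.big
  have hd1 : 0 < d := CharX.irr_deg_pos a
  have hz0 : z ≤ -1 := by
    by_contra h
    push Not at h
    nlinarith
  have h54 : Nat.card G ≤ 54 * d := by
    have : (Nat.card G : ℤ) ≤ 54 * d := by nlinarith
    exact_mod_cast this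
  nlinarith

end Data

end Cfsg.Agent.ThreeTI.Cube
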